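import Cfsg.Agent.Lib.Lead.HS.Forest

/-! # The involutions of the Higman–Sims group: the checks for part 10 of the search trees (generated) -/

set_option autoImplicit false
set_option maxRecDepth 100000

namespace Cfsg.Agent.HSP

open Cfsg.Agent.J3O

theorem chk_conj_10 : CT.all pcj T10 = true := by decide +kernel

theorem chk_c1_10 : (CT.filterL cond1 T10).length = 439 := by decide +kernel

theorem chk_c2_10 : (CT.filterL cond2 T10).length = 277 := by decide +kernel

theorem chk_c3_10 : (CT.filterL cond3 T10).length = 0 := by decide +kernel

end Cfsg.Agent.HSP
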