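import Cfsg.Agent.Lib.Lead.HS.Real
import Cfsg.Prelude.Def_Spor_Conway

/-!
# The Higman–Sims group of the statements is isomorphic to the permutation group on 100 points
-/

set_option autoImplicit false

namespace Cfsg.Agent.HSP

open Cfsg Cfsg.Agent.Lib.Helper6.Leech Cfsg.Agent.Lib.Helper6.Golay Cfsg.Agent.PG

theorem u0_eq_neg : u0 = -Spor.leechV := by
  apply Subtype.ext
  funext k
  show (u0 : GolayPt → ℤ) k = -(Spor.vecV k)
  rw [u0_apply, Spor.vecV]
  split_ifs <;> norm_num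

theorem xr_eq_neg : xrV = -Spor.leechU' := by
  apply Subtype.ext
  funext k
  show (xrV : GolayPt → ℤ) k = -(Spor.vecU' k)
  rw [xr_apply, Spor.vecU']
  by_cases h1 : k = none
  · subst h1; simp
  · by_cases h2 : k = some 0
    · subst h2; simp
    · simp [h1, h2]

theorem mem_HS_iff (σ : Equiv.Perm leechLattice) :
    σ ∈ Spor.HS ↔ ∃ h : σ ∈ Co0, (⟨σ, h⟩ : Co0) ∈ hsRef := by
  constructor
  · rintro ⟨⟨h0, hv⟩, hu⟩
    refine ⟨h0, ?_⟩
    have hv' : σ Spor.leechV = Spor.leechV := hv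
    have hu' : σ Spor.leechU' = Spor.leechU' := hu
    have e1 : (⟨σ, h0⟩ : Co0).1 u0 = u0 := by
      rw [u0_eq_neg, co0_neg]
      show -(σ Spor.leechV) = _
      rw [hv']
    have e2 : (⟨σ, h0⟩ : Co0).1 xrV = xrV := by
      rw [xr_eq_neg, co0_neg]
      show -(σ Spor.leechU') = _
      rw [hu']
    refine mem_hsRef.2 ⟨e1, ?_⟩
    rw [w1_eq, co0_neg, co0_add, e1, e2]
  · rintro ⟨h0, h⟩
    obtain ⟨e1, e2⟩ := mem_hsRef.1 h
    have e3 : (⟨σ, h0⟩ : Co0).1 xrV = xrV := by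
      have : xrV = -w1' + -u0 := by rw [xr_eq]; abel
      rw [this, co0_add, co0_neg, co0_neg, e1, e2]
    have hv : σ Spor.leechV = Spor.leechV := by
      have : Spor.leechV = -u0 := by rw [u0_eq_neg, neg_neg]
      rw [this]
      have := co0_neg ⟨σ, h0⟩ u0
      rw [e1] at this
      exact this
    have hu : σ Spor.leechU' = Spor.leechU' := by
      have : Spor.leechU' = -xrV := by rw [xr_eq_neg, neg_neg]
      rw [this]
      have := co0_neg ⟨σ, h0⟩ xrV
      rw [e3] at this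
      exact this
    exact ⟨⟨h0, hv⟩, hu⟩

/-- the group of the statements is the reference stabiliser -/
noncomputable def sporEquiv : ↥Spor.HS ≃* ↥hsRef where
  toFun σ := ⟨⟨σ.1, ((mem_HS_iff σ.1).1 σ.2).choose⟩, ((mem_HS_iff σ.1).1 σ.2).choose_spec⟩
  invFun g := ⟨g.1.1, (mem_HS_iff g.1.1).2 ⟨g.1.2, g.2⟩⟩
  left_inv _ := rfl
  right_inv _ := rfl
  map_mul' _ _ := rfl

/-- **The Higman–Sims group is isomorphic to the permutation group `P` on 100 points.** -/
noncomputable def hsEquiv : ↥Spor.HS ≃* ↥P := sporEquiv.trans hsRefEquiv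

end Cfsg.Agent.HSP
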