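import Cfsg.Agent.Lib.Lead.HS.Forest

/-! # The Higman–Sims group on 100 points: kernel checks for the automorphism group (generated) -/

set_option autoImplicit false
set_option maxRecDepth 100000

namespace Cfsg.Agent.HSP

open Cfsg.Agent.J3O Cfsg.Agent.PG

/-- the codes of the generators of the Sylow 2-subgroup, the newest first -/
def cS : List ℕ := [1636350422534886613626479380524781621888248290251490481855415299680953374769390086245026322239373038442026815324379110183559663313370862573597822678737826404395245803499775022602904565147916170726113942559228290290428089763044664402620245163892777395199160929111417554944, 101583018622222585246858900785669289350687946895139412259001578410921127834142107600809367766122680758476836105391552738606064753297863441295085946114535890222262465659763268232628966864473756375705075184459637189164744667870488571556181710737620621335344516627480675, 726441139558852791166610786696088415404215527710298272597241106641117334082359250950769956899601985078643302482398655651311693584116662625893380283692320750089076688095107419374040275571513894106087516527965557215880928173854853583637047959687748058106132613580740363859, 727439210774275584733531579217088418205402900019375837384711775897519134028797584273256194038744906329507748653382721337782810903420973603206107210017218939214721301325172620213749971797947179671533555644487860238611022197000975568057470074339869112486290858704830203475,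 1637574898037433389233388033712340244596886878176987590660939743803191121828801274533410576536496750706760658372430033802370005346254386773310827436868254345872367617719618651654413904009680826897108618847557936277717120571555328196596402704210688062193532294641440260608]

theorem chk_zs : runK 100 slpZ [cbi, cb, cai, ca] (fun R => idxZ.map fun i => R.getD i (pone 100)) =
    [cz, c2, c3] := by decide +kernel

theorem chk_G : runK 100 slpG [c3, c2, cz] (fun R => idxG.map fun i => R.getD i (pone 100)) = [ca, cb] := by
  decide +kernel

theorem chk_invs : pmul 100 cz cz = pone 100 ∧ pmul 100 c2 c2 = pone 100 ∧ pmul 100 c3 c3 = pone 100 ∧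
    cz ≠ pone 100 ∧ c2 ≠ pone 100 ∧ c3 ≠ pone 100 := by decide +kernel

theorem chk_cond2 : cond2 c2 = true := by decide +kernel

theorem chk_cond3 : cond3 c3 = true := by decide +kernel

theorem chk_cz : memFL cz hsForest = true ∧ hasFix 100 cz = true := by decide +kernel

theorem chk_S : runK 100 slpS [cbi, cb, cai, ca] (fun R => idxS.map fun i => R.getD i (pone 100)) =
    cS.reverse := by decide +kernel

/-- the test on the codes of the Sylow 2-subgroup -/
def qS (d : ℕ) : Bool := qInv 100 hsForest d && qCen 100 cS cz d

theorem chk_syl : runK 100 sylProg cS (fun D => sylOK 100 cS D qS) = true := by decide +kernel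

theorem chk_sylz : cS.getD 4 0 = cz ∧ cS.length = 5 ∧ sylProg.length = 507 := by decide +kernel

theorem chk_comm : (cS.all fun s => Nat.beq (pmul 100 s cz) (pmul 100 cz s)) = true := by decide +kernel

theorem chk_tau : codeOK 100 ctau ctau = true ∧ pmul 100 ctau ctau = pone 100 ∧ ctau ≠ pone 100 ∧
    (Finset.univ.filter fun x : Fin 100 => lk ctau x.val ≠ x.val).card = 94 := by decide +kernel

theorem chk_T : runK 100 slpT [cbi, cb, cai, ca] (fun R =>
    Nat.beq (R.getD 9 (pone 100)) (pconj 100 ctau ctau ca) &&
    Nat.beq (R.getD 4 (pone 100)) (pconj 100 ctau ctau cb) &&
    Nat.beq (lk (R.getD 2 (pone 100)) 0) 0 && Nat.beq (lk (R.getD 0 (pone 100)) 0) 0 &&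
    allB 100 fun i => Nat.beq i 0 || !(Nat.beq (lk (R.getD 2 (pone 100)) i) i) ||
      !(Nat.beq (lk (R.getD 0 (pone 100)) i) i)) = true := by decide +kernel

end Cfsg.Agent.HSP
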