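import Cfsg.Agent.Lib.Lead.HS.Data
import Cfsg.Agent.Lib.Lead.PG.Outer

/-! # The Higman–Sims group on 100 points: data for the automorphism group (generated) -/

set_option autoImplicit false
set_option maxRecDepth 100000

namespace Cfsg.Agent.HSP

/-- the code of the first involution -/
def cz : ℕ := 1637574898037433389233388033712340244596886878176987590660939743803191121828801274533410576536496750706760658372430033802370005346254386773310827436868254345872367617719618651654413904009680826897108618847557936277717120571555328196596402704210688062193532294641440260608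
/-- the code of the second involution -/
def c2 : ℕ := 1321191726249633844365770397896399115279080727931190037837044313615846480921265957530755293575719920404736710913185204854416454468193088380096549803404910767948086957930372680914479440738855639315508865721934464265143871347532874901481632427808866498235527931310464827393
/-- the code of the third involution -/
def c3 : ℕ := 1637574520191176917249177298163796134203662426285313547415817793162715238063781539536161383811439629535451328817548200365676898036401026686040905959683172860063923221834572916782306376778584676464147790552339713133720076148887639835858728691111405924617983321626013876224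
/-- the program of the three involutions from the generators -/
def slpZ : List (ℕ × ℕ) := [(3, 1), (1, 3), (5, 1), (1, 5), (7, 1), (1, 7), (7, 3), (3, 7), (9, 3), (3, 9), (13, 3), (3, 13), (15, 3), (3, 15), (15, 5), (5, 15), (19, 5), (5, 19), (19, 5), (5, 19), (21, 5), (5, 21), (23, 5), (5, 23), (27, 5), (5, 27), (29, 5), (5, 29), (29, 5), (5, 29), (33, 3), (3, 33), (33, 3), (3, 33), (35, 3), (3, 35), (37, 3), (3, 37), (12, 1), (1, 14), (41, 5), (5, 41), (36, 1), (1, 38), (5, 5), (5, 5), (3, 7), (7, 3), (9, 5), (5, 9), (7, 5), (5, 7), (13, 5), (5, 13), (15, 5), (5, 15), (13, 7), (18, 6), (6, 18), (16, 8), (8, 16), (22, 8), (8, 22), (24, 8), (8, 24), (26, 5), (5, 26), (24, 3), (3, 24), (26, 3), (3, 26), (32, 3), (3, 32), (2, 1), (1, 4), (32, 17), (17, 32), (37, 1), (1, 39), (36, 26), (26, 36), (18, 1), (1, 20), (5, 9), (9, 5), (3, 11), (11, 3), (5, 5), (5, 5), (7, 5), (5, 7), (13, 5), (10, 6), (6, 10), (20, 6), (6, 20), (22, 6), (6, 22), (24, 5), (5, 24), (18, 7), (7, 18), (20, 5), (5, 20), (30, 5), (5, 30), (4, 1), (1, 6), (34, 7), (7,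 34), (6, 1), (1, 8), (34, 17), (17, 34), (12, 1), (1, 14), (9, 9), (9, 9), (7, 11), (11, 7), (5, 13), (13, 5), (15, 11), (8, 12), (17, 9), (9, 17), (15, 9), (9, 15), (13, 11), (18, 6), (23, 5), (5, 23), (21, 7), (7, 21), (27, 15), (15, 27), (16, 1), (1, 18), (27, 5), (5, 27), (8, 1), (1, 10), (35, 21), (21, 35), (16, 1), (1, 18), (8, 4), (10, 6), (7, 7), (4, 8), (9, 5), (4, 5), (11, 1), (1, 0), (0, 0), (116, 52), (0, 27), (0, 9), (0, 3), (160, 91), (0, 70), (0, 31), (0, 13), (0, 9), (107, 72), (0, 41), (0, 16)]
/-- the registers of the three involutions -/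
def idxZ : List ℕ := [8, 3, 0]
/-- the program of the generators from the three involutions -/
def slpG : List (ℕ × ℕ) := [(0, 1), (2, 1), (3, 1), (1, 4), (6, 1), (1, 7), (6, 3), (3, 7), (9, 3), (3, 10), (10, 5), (5, 11), (13, 5), (5, 14), (16, 5), (5, 17), (17, 5), (5, 18), (20, 5), (5, 21), (21, 5), (5, 22), (24, 5), (5, 25), (25, 5), (5, 26), (26, 7), (7, 27), (28, 7), (7, 29), (31, 7), (7, 32), (34, 7), (7, 35), (35, 7), (7, 36), (37, 7), (7, 38), (40, 7), (7, 41), (41, 7), (7, 42), (44, 7), (7, 45), (46, 7), (7, 47), (47, 7), (7, 48), (50, 7), (7, 51), (50, 7), (7, 51), (53, 7), (7, 54), (54, 7), (7, 55), (58, 3), (3, 59), (59, 3), (3, 60), (61, 3), (3, 62), (64, 3), (3, 65), (64, 1), (1, 65), (67, 1), (1, 68), (68, 7), (7, 69), (8, 1), (1, 10), (74, 5), (5, 75), (6, 1), (1, 8), (78, 15), (15, 79), (16, 1), (1, 18), (81, 31), (31, 82), (30, 1), (1, 32), (9, 13), (13, 9), (3, 7), (7, 3), (17, 5), (5, 17), (11, 7), (8, 8), (8, 8), (10, 6), (6, 10), (12, 6), (6, 12), (14, 6), (19, 6), (6, 19), (29, 6), (6, 29), (7, 1), (1, 9), (29,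 8), (8, 29), (6, 1), (1, 8), (25, 23), (23, 25), (24, 1), (1, 26), (9, 5), (5, 9), (7, 7), (7, 7), (9, 5), (5, 9), (7, 5), (5, 7), (17, 5), (5, 17), (15, 3), (3, 15), (17, 3), (3, 17), (15, 5), (24, 4), (4, 24), (22, 4), (4, 22), (24, 4), (25, 2), (2, 25), (5, 1), (1, 7), (33, 19), (19, 33), (18, 1), (1, 20), (5, 5), (5, 5), (7, 39), (39, 7), (41, 5), (42, 4), (4, 6), (12, 4), (8, 0), (10, 4), (6, 0), (16, 6), (5, 0), (2, 4), (1, 5), (2, 0), (0, 0), (61, 27), (0, 15), (0, 5), (0, 3), (162, 63), (0, 30), (0, 17)]
/-- the registers of the generators -/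
def idxG : List ℕ := [3, 0]
/-- the program of the test of the second involution: the order of `z t` is 12 -/
def slp2 : List (ℕ × ℕ) := [(1, 0), (0, 0), (0, 1), (0, 0), (0, 0), (4, 4), (0, 5), (0, 0), (7, 7), (0, 0)]
def ts2 : List (ℕ × Bool) := [(5, true), (2, false), (0, false)]
/-- the first test of the third involution: `z t` has order 2 -/
def slpA : List (ℕ × ℕ) := [(2, 0), (0, 0)]
def tsA : List (ℕ × Bool) := [(0, true), (1, false)]
/-- the second test of the third involution: `z₂ t` has order 10 and `z z₂ t z₂ t z₂` has order 12 -/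
def slpB : List (ℕ × ℕ) := [(1, 0), (0, 0), (0, 0), (0, 2), (0, 0), (4, 4), (0, 0), (0, 6), (7, 7), (11, 10), (0, 10), (0, 12), (0, 12), (0, 14), (0, 0), (0, 1), (0, 0), (0, 0), (4, 4), (0, 5), (0, 0), (7, 7), (0, 0)]
def tsB : List (ℕ × Bool) := [(18, true), (15, false), (14, false), (5, true), (2, false), (0, false)]
/-- the program of the generators of a Sylow 2-subgroup -/
def slpS : List (ℕ × ℕ) := [(3, 1), (1, 3), (5, 1), (1, 5), (5, 3), (8, 2), (2, 8), (8, 4), (4, 8), (12, 4), (11, 4), (4, 11), (15, 4), (4, 15), (17, 4), (18, 4), (4, 18), (18, 6), (6, 18), (22, 6), (6, 22), (24, 6), (23, 6), (6, 23), (25, 6), (6, 25), (27, 6), (6, 27), (31, 6), (32, 6), (6, 32), (34, 6), (6, 34), (34, 6), (6, 34), (38, 6), (37, 7), (40, 5), (5, 40), (40, 5), (5, 40), (44, 5), (43, 4), (4, 43), (45, 4), (4, 45), (15, 1), (1, 17), (49, 5), (5, 49), (43, 1), (1, 45), (5, 5), (5, 5), (3, 7), (7, 3), (9, 5), (5, 9), (7, 5), (5, 7), (13, 5), (5, 13), (11, 7), (16, 6), (6, 16), (18, 6), (6, 18), (16, 8), (8, 16), (22, 8), (8, 22), (24, 7), (7, 24), (26,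 5), (5, 26), (24, 3), (3, 24), (26, 3), (3, 26), (32, 3), (3, 32), (2, 1), (1, 4), (32, 17), (17, 32), (37, 1), (1, 39), (36, 26), (26, 36), (18, 1), (1, 20), (5, 9), (9, 5), (3, 11), (11, 3), (5, 9), (6, 6), (6, 6), (8, 6), (6, 8), (14, 6), (11, 7), (7, 11), (13, 7), (22, 7), (7, 22), (24, 7), (7, 24), (26, 6), (6, 26), (20, 8), (8, 20), (22, 5), (5, 22), (32, 5), (5, 32), (4, 1), (1, 6), (36, 7), (7, 36), (6, 1), (1, 8), (36, 17), (17, 36), (12, 1), (1, 14), (9, 9), (9, 9), (7, 11), (11, 7), (5, 13), (13, 5), (15, 7), (7, 15), (13, 7), (7, 13), (11, 9), (12, 6), (21, 5), (5, 21), (19, 7), (7, 19), (25, 13), (13, 25), (14, 1), (1, 16), (25, 5), (5, 25), (8, 1), (1, 10), (33, 19), (19, 33), (16, 1), (1, 18), (9, 9), (9, 5), (11, 7), (8, 4), (2, 4), (14, 2), (11, 2), (2, 0), (0, 0), (116, 50), (0, 27), (0, 8), (0, 3), (130, 104), (0, 55), (0, 31), (0, 10), (0, 8), (135, 119), (0, 74), (0, 36), (0, 20), (0, 13), (135, 99), (0, 77), (0, 41), (0, 25), (0, 18), (116, 78), (0, 54), (0, 39), (0, 22)]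
def idxS : List ℕ := [19, 14, 9, 4, 0]
/-- the program of all elements of the Sylow 2-subgroup from its generators -/
def sylProg : List (ℕ × ℕ) := [(4, 4), (4, 5), (4, 6), (4, 7), (4, 8), (8, 8), (8, 9), (8, 10), (8, 11), (12, 11), (12, 12), (12, 13), (12, 14), (16, 14), (16, 15), (15, 16), (19, 16), (19, 17), (19, 18), (22, 17), (22, 18), (21, 19), (25, 19), (25, 20), (25, 21), (25, 22), (28, 22), (30, 22), (30, 23), (32, 23), (32, 24), (32, 25), (32, 26), (36, 26), (36, 27), (36, 28), (36, 29), (40, 29), (40, 30), (39, 31), (42, 31), (42, 32), (45, 32), (45, 33), (45, 34), (45, 35), (49, 35), (49, 36), (49, 37), (49, 38), (53, 38), (53, 39), (52, 40), (56, 40), (56, 41), (56, 42), (58, 42), (60, 42), (60, 43), (60, 44), (60, 45), (64, 45), (64, 46), (66, 46), (66, 47), (65, 48), (69, 48), (69, 49), (69, 50), (69, 51), (73, 51), (73, 52), (74, 52), (76, 52), (76, 53), (76, 54), (76, 55), (79, 55), (81, 55), (81, 56), (80, 57), (84, 57), (84, 58), (84, 59), (84, 60), (87, 60), (89, 60), (89, 61), (91, 61), (91, 62), (91, 63), (91, 64),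 (94, 64), (96, 64), (96, 65), (96, 66), (96, 67), (99, 67), (99, 68), (102, 68), (102, 69), (102, 70), (102, 71), (106, 71), (106, 72), (105, 73), (108, 73), (108, 74), (111, 74), (111, 75), (111, 76), (111, 77), (115, 77), (115, 78), (115, 79), (115, 80), (119, 80), (119, 81), (118, 82), (122, 82), (122, 83), (122, 84), (124, 84), (126, 84), (126, 85), (126, 86), (126, 87), (129, 87), (131, 87), (131, 88), (131, 89), (131, 90), (134, 90), (136, 90), (136, 91), (135, 92), (139, 92), (139, 93), (139, 94), (139, 95), (140, 95), (143, 95), (143, 96), (146, 96), (146, 97), (145, 98), (149, 98), (149, 99), (149, 100), (149, 101), (153, 101), (151, 102), (155, 102), (155, 103), (155, 104), (158, 103), (158, 104), (158, 105), (158, 106), (162, 106), (162, 107), (164, 107), (164, 108), (163, 109), (167, 109), (167, 110), (166, 111), (170, 111), (170, 112), (170, 112), (170, 113), (174, 113), (173, 114), (173, 115), (177, 115), (177, 116), (177, 117), (177, 118), (181, 118), (181, 119), (180, 120), (184, 120), (184, 121), (184, 122), (186, 122),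 (188, 122), (187, 123), (187, 124), (190, 124), (190, 124), (190, 125), (193, 125), (195, 125), (195, 126), (195, 127), (195, 128), (199, 128), (199, 129), (198, 130), (202, 130), (202, 131), (201, 132), (205, 132), (204, 133), (206, 133), (208, 133), (208, 134), (208, 135), (208, 136), (212, 136), (212, 137), (211, 138), (215, 138), (215, 139), (214, 140), (218, 140), (218, 141), (218, 142), (218, 143), (222, 142), (222, 143), (224, 143), (224, 144), (224, 145), (224, 146), (227, 146), (229, 146), (229, 147), (229, 148), (229, 149), (232, 149), (234, 149), (234, 150), (233, 151), (237, 151), (237, 152), (237, 153), (237, 154), (241, 153), (241, 154), (241, 154), (243, 154), (245, 154), (245, 155), (244, 156), (245, 156), (249, 156), (249, 157), (249, 158), (252, 157), (252, 158), (252, 158), (252, 159), (256, 159), (256, 160), (255, 161), (259, 161), (259, 162), (261, 161), (262, 161), (262, 162), (262, 163), (262, 164), (265, 164), (266, 164), (266, 165), (266, 166), (270, 166), (270, 167), (270, 168), (270, 169), (274, 169), (274,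 170), (273, 171), (277, 171), (277, 172), (277, 173), (279, 173), (281, 173), (281, 174), (280, 175), (283, 175), (285, 175), (285, 176), (285, 177), (285, 178), (288, 178), (290, 178), (290, 179), (289, 180), (293, 180), (292, 181), (292, 182), (293, 182), (296, 182), (296, 183), (299, 183), (299, 184), (298, 185), (301, 185), (301, 186), (304, 186), (302, 187), (304, 187), (307, 186), (307, 187), (306, 188), (310, 188), (310, 189), (312, 189), (312, 190), (311, 191), (315, 190), (315, 191), (314, 191), (318, 191), (317, 192), (320, 192), (319, 193), (319, 194), (323, 194), (323, 195), (322, 196), (326, 196), (325, 197), (328, 197), (327, 198), (327, 199), (331, 199), (331, 200), (331, 201), (331, 202), (332, 202), (336, 202), (336, 203), (335, 204), (337, 204), (340, 204), (340, 205), (340, 206), (340, 207), (344, 206), (344, 207), (343, 208), (346, 208), (348, 208), (347, 209), (347, 210), (351, 209), (351, 210), (350, 211), (354, 211), (354, 212), (354, 213), (356, 213), (358, 213), (358, 214), (358, 215), (358, 216), (361, 216),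 (363, 216), (361, 217), (364, 216), (366, 215), (365, 216), (365, 217), (369, 217), (367, 218), (370, 218), (370, 219), (373, 218), (373, 219), (375, 219), (376, 218), (376, 219), (378, 219), (377, 220), (379, 220), (380, 220), (382, 220), (382, 220), (384, 220), (384, 220), (384, 220), (384, 221), (388, 220), (388, 221), (387, 222), (388, 222), (391, 221), (393, 221), (394, 220), (392, 219), (396, 215), (397, 213), (397, 213), (399, 213), (400, 211), (400, 212), (400, 213), (400, 213), (404, 213), (403, 214), (406, 214), (404, 215), (408, 214), (408, 215), (410, 214), (408, 215), (412, 215), (411, 216), (413, 215), (415, 215), (413, 216), (416, 216), (418, 214), (419, 214), (420, 214), (420, 215), (419, 216), (423, 216), (422, 216), (425, 215), (426, 214), (427, 213), (427, 214), (427, 215), (427, 216), (430, 216), (432, 215), (430, 216), (433, 216), (434, 216), (434, 216), (436, 214), (437, 213), (436, 214), (440, 207), (440, 208), (442, 208), (441, 209), (441, 210), (443, 206), (445, 205), (444, 202), (448, 202), (448, 203), (447,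 204), (451, 197), (452, 196), (452, 197), (453, 195), (454, 193), (455, 193), (455, 194), (455, 195), (459, 194), (459, 195), (461, 194), (459, 195), (463, 195), (462, 196), (464, 195), (465, 194), (467, 194), (467, 192), (468, 191), (467, 189), (471, 188), (469, 189), (470, 188), (472, 188), (472, 189), (476, 188), (476, 189), (475, 190), (477, 190), (477, 190), (481, 187), (481, 180), (483, 180), (484, 176), (484, 176), (485, 175), (484, 173), (487, 172), (489, 163), (489, 161), (489, 162), (489, 162), (491, 162), (492, 161), (494, 160), (496, 147), (494, 147), (496, 147), (496, 141), (500, 141), (498, 142), (499, 141), (501, 141), (502, 141), (502, 142), (506, 118), (506, 116), (507, 99), (509, 61)]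
/-- the code of an odd involution normalising the group -/
def ctau : ℕ := 1520946902659912299005383705405987923662180420584581376803356762850694762700809086804061098790482112256964128872041409895478904743389478000565732693502111029636023381565458983763157206818724620826538629885627101291761449163654876098571654996948780640853482196082830374400
/-- the program of the conjugates of the generators and of elements fixing the first point only -/
def slpT : List (ℕ × ℕ) := [(3, 1), (1, 3), (5, 1), (1, 5), (5, 3), (8, 2), (2, 8), (8, 4), (4, 8), (12, 4), (11, 4), (4, 11), (15, 4), (4, 15), (15, 4), (18, 4), (4, 18), (18, 6), (6, 18), (22, 6), (6, 22), (24, 6), (23, 6), (6, 23), (25, 6), (6, 25), (27, 6), (6, 27), (29, 6), (32, 6), (6, 32), (34, 6), (6, 34), (34, 6), (6, 34), (38, 3), (3, 38), (38, 3), (3, 38), (40, 3), (3, 40), (42, 3), (3, 42), (12, 1), (1, 14), (46, 5), (5, 46), (40, 1), (1, 42), (5, 5), (5, 5), (3, 7), (7, 3), (9, 5), (5, 9), (7, 5), (5, 7), (13, 5), (5, 13), (15, 5), (5, 15), (13, 7), (18, 6), (6, 18), (16, 8), (8, 16),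 (22, 8), (8, 22), (24, 8), (8, 24), (26, 5), (5, 26), (24, 3), (3, 24), (26, 3), (3, 26), (32, 3), (3, 32), (2, 1), (1, 4), (32, 17), (17, 32), (37, 1), (1, 39), (36, 26), (26, 36), (18, 1), (1, 20), (5, 9), (9, 5), (3, 11), (11, 3), (5, 5), (5, 5), (7, 5), (5, 7), (9, 5), (5, 9), (19, 5), (5, 19), (13, 7), (22, 6), (6, 22), (24, 6), (6, 24), (18, 8), (8, 18), (20, 5), (5, 20), (30, 5), (5, 30), (4, 1), (1, 6), (34, 7), (7, 34), (6, 1), (1, 8), (34, 18), (18, 34), (12, 1), (1, 14), (9, 9), (9, 9), (7, 11), (11, 7), (5, 13), (13, 5), (7, 11), (16, 8), (8, 16), (14, 8), (8, 14), (16, 8), (21, 4), (4, 21), (19, 6), (6, 19), (12, 24), (0, 14), (23, 3), (3, 23), (6, 1), (1, 8), (31, 17), (17, 31), (13, 1), (1, 15), (8, 4), (6, 6), (7, 3), (2, 3), (5, 2), (10, 2), (2, 0), (0, 0), (101, 56), (0, 28), (0, 5), (0, 3), (130, 97), (0, 59), (0, 28), (0, 13), (0, 8), (167, 137), (137, 0), (169, 130), (158, 0)]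
def idxT : List ℕ := [9, 4, 2, 0]

end Cfsg.Agent.HSP
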