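import Cfsg.Agent.Lib.Lead.HS.Chk

/-!
# The Higman–Sims group as a permutation group on 100 points

The stabiliser `hsRef` of the reference pair of vectors acts faithfully on its 100 vectors; the image is the group
`P` generated by two explicit permutations, whose order is bounded below by a chain of partial transversals.
-/

set_option autoImplicit false

namespace Cfsg.Agent.HSP

open Cfsg Cfsg.Agent.Lib.Helper6.Leech Cfsg.Agent.Lib.Helper6.Golay Cfsg.Agent.PG

theorem n_le : (100 : ℕ) ≤ 512 := by norm_num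

theorem pts_facts {x : List ℤ} (hx : x ∈ ptsL) : inLeechL x = true ∧ normL x = 32 ∧ dotL u0L x = 24 ∧
    dotL w1L x = -24 ∧ x.length = 24 := by
  have := List.all_eq_true.1 chk_pts x hx
  simp only [Bool.and_eq_true, beq_iff_eq] at this
  obtain ⟨⟨⟨⟨h1, h2⟩, h3⟩, h4⟩, h5⟩ := this
  exact ⟨h1, h2, h3, h4, h5⟩

/-- the `i`-th list -/
def ptL (i : Fin 100) : List ℤ := ptsL[i.val]'(by rw [chk_len]; exact i.2)

theorem ptL_mem (i : Fin 100) : ptL i ∈ ptsL := List.getElem_mem _

theorem ptL_eq_getD (i : Fin 100) : ptL i = ptsL.getD i.val [] := by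
  rw [ptL, List.getD_eq_getElem]

/-- the `i`-th vector -/
def pt (i : Fin 100) : leechLattice :=
  ⟨vecOf (ptL i), mem_leechLattice.mpr (inLeechL_sound _ (pts_facts (ptL_mem i)).1)⟩

theorem pt_mem (i : Fin 100) : pt i ∈ hsPts := by
  obtain ⟨-, h2, h3, h4, -⟩ := pts_facts (ptL_mem i)
  refine ⟨?_, ?_, ?_⟩
  · show sqNorm (vecOf (ptL i)) = 32
    rw [sqNorm_vecOf]; exact h2
  · show dotInt (vecOf u0L) (vecOf (ptL i)) = 24
    rw [dotInt_vecOf]; exact h3
  · show dotInt (vecOf w1L) (vecOf (ptL i)) = -24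
    rw [dotInt_vecOf]; exact h4

theorem pt_injective : Function.Injective pt := by
  intro i j h
  have h1 : vecOf (ptL i) = vecOf (ptL j) := congrArg Subtype.val h
  have h2 : ptL i = ptL j := by
    rw [← listOf_vecOf _ (pts_facts (ptL_mem i)).2.2.2.2, ← listOf_vecOf _ (pts_facts (ptL_mem j)).2.2.2.2, h1]
  exact Fin.ext ((List.Nodup.getElem_inj_iff chk_nodup).1 h2)

theorem range_pt : Set.range pt = hsPts := by
  apply Set.eq_of_subset_of_ncard_le
  · rintro _ ⟨i, rfl⟩; exact pt_mem i
  · rw [hsPts_ncard, Set.ncard_range_of_injective pt_injective, Nat.card_fin]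
  · exact Set.finite_of_ncard_ne_zero (by rw [hsPts_ncard]; norm_num)

theorem exists_pt {x : leechLattice} (hx : x ∈ hsPts) : ∃ i, pt i = x := by
  rw [← range_pt] at hx; exact hx

/-- the index of a vector -/
noncomputable def idxP (x : leechLattice) (hx : x ∈ hsPts) : Fin 100 := (exists_pt hx).choose

theorem pt_idxP (x : leechLattice) (hx : x ∈ hsPts) : pt (idxP x hx) = x := (exists_pt hx).choose_spec

/-- the action on the indices -/
noncomputable def rhoFun (g : hsRef) (i : Fin 100) : Fin 100 :=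
  idxP (g.1.1 (pt i)) (hsPts_inv g.2 (pt_mem i))

theorem pt_rhoFun (g : hsRef) (i : Fin 100) : pt (rhoFun g i) = g.1.1 (pt i) := pt_idxP _ _

theorem rhoFun_one (i : Fin 100) : rhoFun 1 i = i := pt_injective (by rw [pt_rhoFun]; rfl)

theorem rhoFun_mul (g h : hsRef) (i : Fin 100) : rhoFun (g * h) i = rhoFun g (rhoFun h i) :=
  pt_injective (by rw [pt_rhoFun, pt_rhoFun, pt_rhoFun]; rfl)

/-- the permutation representation -/
noncomputable def rho : hsRef →* Equiv.Perm (Fin 100) where
  toFun g :=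
    { toFun := rhoFun g
      invFun := rhoFun g⁻¹
      left_inv := fun i => by rw [← rhoFun_mul, inv_mul_cancel, rhoFun_one]
      right_inv := fun i => by rw [← rhoFun_mul, mul_inv_cancel, rhoFun_one] }
  map_one' := Equiv.ext rhoFun_one
  map_mul' g h := Equiv.ext (rhoFun_mul g h)

theorem pt_rho (g : hsRef) (i : Fin 100) : pt (rho g i) = g.1.1 (pt i) := pt_rhoFun g i

/-- the permutation of a good word -/
theorem exists_rho_eq (w : List Prim) (hw : GoodWord [u0L, w1L] w) (c c' : ℕ) (hc : codeOK 100 c c' = true)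
    (hact : ((List.range 100).all fun i => actW w (ptsL.getD i []) == ptsL.getD (lk c i) []) = true) :
    ∃ g : hsRef, rho g = dec 100 c := by
  obtain ⟨t, ht⟩ := actW_sound w hw.1
  have h1 : t.1 u0 = u0 := by
    apply Subtype.ext
    show ((t.1 ⟨vecOf u0L, u0L_mem⟩ : leechLattice) : GolayPt → ℤ) = vecOf u0L
    rw [ht u0L u0L_mem]
    exact hw.2 u0L List.mem_cons_self
  have h2 : t.1 w1' = w1' := by
    apply Subtype.ext
    show ((t.1 ⟨vecOf w1L, w1L_mem⟩ : leechLattice) : GolayPt → ℤ) = vecOf w1L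
    rw [ht w1L w1L_mem]
    exact hw.2 w1L (List.mem_cons_of_mem _ List.mem_cons_self)
  have hic := isCode_of_codeOK n_le hc
  refine ⟨⟨t, mem_hsRef.2 ⟨h1, h2⟩⟩, Equiv.ext fun i => pt_injective ?_⟩
  rw [pt_rho]
  apply Subtype.ext
  show ((t.1 ⟨vecOf (ptL i), _⟩ : leechLattice) : GolayPt → ℤ) = vecOf (ptL (dec 100 c i))
  rw [ht]
  have := List.all_eq_true.1 hact i.val (List.mem_range.2 i.2)
  rw [beq_iff_eq] at this
  rw [ptL_eq_getD, this, ptL_eq_getD, dec_apply n_le hic]

/-- the first generator -/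
noncomputable def gA : Equiv.Perm (Fin 100) := dec 100 ca
/-- the second generator -/
noncomputable def gB : Equiv.Perm (Fin 100) := dec 100 cb

/-- the Higman–Sims group on 100 points -/
noncomputable def P : Subgroup (Equiv.Perm (Fin 100)) := Subgroup.closure {gA, gB}

theorem isCode_ca : IsCode 100 ca := isCode_of_codeOK n_le chk_codes.1
theorem isCode_cb : IsCode 100 cb := isCode_of_codeOK n_le chk_codes.2.1

theorem enc_gA : enc 100 gA = ca := enc_dec isCode_ca
theorem enc_gB : enc 100 gB = cb := enc_dec isCode_cb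
theorem enc_gAi : enc 100 gA⁻¹ = cai := by rw [← pinv_enc n_le, enc_gA]; exact chk_codes.2.2.1
theorem enc_gBi : enc 100 gB⁻¹ = cbi := by rw [← pinv_enc n_le, enc_gB]; exact chk_codes.2.2.2.1

theorem gA_mem : gA ∈ P := Subgroup.subset_closure (Set.mem_insert _ _)
theorem gB_mem : gB ∈ P := Subgroup.subset_closure (Set.mem_insert_of_mem _ rfl)

theorem hsGens_good : ∀ w ∈ hsGens, GoodWord [u0L, w1L] w := goodWord_of_checkGens hmPerms_rep hsGens_ok

theorem exists_rho_gA : ∃ g : hsRef, rho g = gA :=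
  exists_rho_eq wA (hsGens_good wA (by simp [wA, hsGens])) ca cai chk_codes.1 chk_actA

theorem exists_rho_gB : ∃ g : hsRef, rho g = gB :=
  exists_rho_eq wB (hsGens_good wB (by simp [wB, hsGens])) cb cbi chk_codes.2.1 chk_actB

theorem P_le : P ≤ rho.range := by
  rw [P, Subgroup.closure_le]
  intro g hg
  rcases hg with rfl | rfl
  · obtain ⟨g, hg⟩ := exists_rho_gA; exact ⟨g, hg⟩
  · obtain ⟨g, hg⟩ := exists_rho_gB; exact ⟨g, hg⟩

theorem gA_ne_one : gA ≠ 1 := by
  intro h
  have h1 := dec_apply n_le isCode_ca ⟨1, by norm_num⟩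
  rw [show dec 100 ca = gA from rfl, h] at h1
  exact chk_codes.2.2.2.2 h1.symm

theorem rho_injective : Function.Injective rho := by
  have := isSimpleGroup_hsRef
  rw [← MonoidHom.ker_eq_bot_iff]
  rcases (rho.normal_ker).eq_bot_or_eq_top with h | h
  · exact h
  · exfalso
    obtain ⟨g, hg⟩ := exists_rho_gA
    have : g ∈ rho.ker := by rw [h]; exact Subgroup.mem_top g
    rw [MonoidHom.mem_ker, hg] at this
    exact gA_ne_one this

theorem card_range : Nat.card rho.range = 44352000 := by
  rw [← card_hsRef]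
  exact (Nat.card_congr (MonoidHom.ofInjective rho_injective).toEquiv).symm

/-- the lower bound from the chain -/
theorem card_P_ge : 44352000 ≤ Nat.card P := by
  have hchk := chk_chain
  rw [runK_eq] at hchk
  let bs : List ↥P := [⟨gB⁻¹, P.inv_mem gB_mem⟩, ⟨gB, gB_mem⟩, ⟨gA⁻¹, P.inv_mem gA_mem⟩, ⟨gA, gA_mem⟩]
  have hregs : RegsOK P bs [cbi, cb, cai, ca] :=
    List.Forall₂.cons enc_gBi (List.Forall₂.cons enc_gB (List.Forall₂.cons enc_gAi
      (List.Forall₂.cons enc_gA List.Forall₂.nil)))
  have hrun := hregs.run n_le (is := chainProg)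
  have := chain_sound n_le P chainBase [] _ hchk (by
    intro U hU c hc
    rw [List.mem_map] at hU
    obtain ⟨l, -, rfl⟩ := hU
    rw [List.mem_map] at hc
    obtain ⟨i, -, rfl⟩ := hc
    exact ⟨((runM chainProg bs).getD i 1).1, ((runM chainProg bs).getD i 1).2, hrun.getD i⟩)
  rw [fixer_nil] at this
  refine le_trans (le_of_eq ?_) this
  rw [List.map_map]
  have e : (List.length ∘ fun l : List ℕ =>
      l.map fun i => (run 100 chainProg [cbi, cb, cai, ca]).getD i (pone 100)) = List.length := by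
    funext l
    simp
  rw [e, chk_prod]

theorem P_eq : P = rho.range := by
  have hfin : Finite rho.range := Nat.finite_of_card_ne_zero (by rw [card_range]; norm_num)
  apply Subgroup.eq_of_le_of_card_ge P_le
  rw [card_range]
  exact card_P_ge

theorem card_P : Nat.card P = 44352000 := by rw [P_eq, card_range]

/-- the reference stabiliser is isomorphic to the permutation group -/
noncomputable def hsRefEquiv : ↥hsRef ≃* ↥P :=
  (MonoidHom.ofInjective rho_injective).trans (MulEquiv.subgroupCongr P_eq.symm)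

end Cfsg.Agent.HSP
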